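import Groth.Agent.RigidD.Main
import Groth.Agent.Dual3Nu.Local
import Groth.Agent.RelPCS.Push
import Groth.Agent.PerfGen.Open
import Groth.Agent.DualCx.RightAdjoint
import Groth.Agent.DerPush.Basic
import Groth.Agent.ClSubLib.AnnIdeal
import Groth.Agent.RHomCx.Restrict
import Groth.Agent.WayOut.Basic
import Groth.Agent.S3630
import Groth.Prelude.Def_Dual3

/-!
Testing `φ ↦ i_* φ ≫ ξ` on the generators `j_! O_U`.
-/

set_option autoImplicit false
set_option backward.isDefEq.respectTransparency false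
set_option backward.isDefEq.respectTransparency.types false
set_option linter.style.haveILetI false
set_option linter.unusedSectionVars false
set_option maxHeartbeats 1000000

universe u

open CategoryTheory Limits Pretriangulated AlgebraicGeometry

attribute [local instance] HasDerivedCategory.standard

namespace Groth.Agent.RelDual3

open Groth.Agent.DQCoh (RD)
open Groth.Agent.RelPCS (PD)
open Groth.Agent.RigidD Groth.Agent.PerfGen

variable {Z P : Scheme.{u}}

/-- exact direct image is the derived direct image -/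
theorem nonempty_pd_iso_rpush (i : Z ⟶ P) [IsClosedImmersion i] [DCoh.HasRpush i] :
    Nonempty (PD i ≅ DCoh.Rpush i) := by
  haveI := Functor.isRightDerivedFunctor_of_inverts (HomotopyCategory.quasiIso Z.Modules (ComplexShape.up ℤ))
    (PD i) ((Scheme.Modules.pushforward i).mapDerivedCategoryFactorsh)
  exact ⟨Functor.rightDerivedUnique (PD i) (DCoh.Rpush i) (F := DCoh.pushKh i)
    (Scheme.Modules.pushforward i).mapDerivedCategoryFactorsh.inv (DerPush.rpushUnit i)
    (HomotopyCategory.quasiIso Z.Modules (ComplexShape.up ℤ))⟩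

/-- derived direct image along an isomorphism is an equivalence -/
theorem isEquivalence_rpush (k : Z ⟶ P) [IsIso k] [DCoh.HasRpush k] : (DCoh.Rpush k).IsEquivalence := by
  haveI := KFlat.hasLpull k
  obtain ⟨a⟩ := DerPush.nonempty_lpull_adj_rpush k
  haveI : (RD k).IsEquivalence := (RigidD.rdEquiv k).isEquivalence_functor
  haveI : (DCoh.Lpull k).IsEquivalence :=
    Functor.isEquivalence_of_iso ((a.leftAdjointUniq (PerfGen.adjR k)).symm)
  exact a.isEquivalence_right_of_isEquivalence_left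

/-- an object supported in an open is extended by zero from it -/
theorem isIso_counit_of_supp (W : P.Opens) {Y : DCoh.D P} (h : SuppD (W : Set P) Y) :
    IsIso ((adjD W).counit.app Y) := by
  let ε := (adjD W).counit.app Y
  haveI : IsIso ((RD W.ι).map ε) := by
    haveI := isIso_adjD_unit W ((DCoh.restrictD W.ι).obj Y)
    exact IsIso.of_isIso_fac_left ((adjD W).right_triangle_components Y)
  obtain ⟨C, a, b, hT⟩ := distinguished_cocone_triangle ε
  refine (Triangle.isZero₃_iff_isIso₁ _ hT).1 (isZero_of_suppD_empty fun k x hx => ?_)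
  by_cases hxW : x ∈ W
  · have hz : IsZero ((RD W.ι).obj C) :=
      (Triangle.isZero₃_iff_isIso₁ _ ((RD W.ι).map_distinguished _ hT)).2 ‹IsIso ((RD W.ι).map ε)›
    exact ((isZero_RD_iff W.ι C).1 hz k hx) ⟨⟨x, hxW⟩, rfl⟩
  · refine (mem_support_iff _ x).1 hx ?_
    let H := DerivedCategory.homologyFunctor P.Modules 0
    have hS := (H.homologySequence_exact₃ _ hT k (k + 1) rfl).map (DerSch.stalkFunctor P x)
    have h1 : IsZero ((DerSch.stalkFunctor P x).obj ((H.shift k).obj Y)) :=
      (not_not.1 fun hh => hxW (h k ((mem_support_iff _ x).2 hh)))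
    have h2 : IsZero ((DerSch.stalkFunctor P x).obj
        ((H.shift (k + 1)).obj ((eUD W).obj ((DCoh.restrictD W.ι).obj Y)))) :=
      (RHomCx.isZero_stalk_extZero W _ x hxW).of_iso ((DerSch.stalkFunctor P x).mapIso
        (WayOut.mapDerivedHomologyIso (CxOX.extZero W.ι) _ (k + 1)))
    exact hS.isZero_X₂ (h1.eq_of_src _ _) (h2.eq_of_tgt _ _)

/-- `i_*` of an extension by zero is supported in the open -/
theorem suppD_pd (i : Z ⟶ P) [IsClosedImmersion i] (W : P.Opens) (C : DCoh.D (i ⁻¹ᵁ W : Scheme.{u})) :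
    SuppD (W : Set P) ((PD i).obj ((eUD (i ⁻¹ᵁ W)).obj C)) := fun k p hp => by
  by_contra hW
  have e := (DerSch.stalkFunctor P p).mapIso
    (WayOut.mapDerivedHomologyIso (Scheme.Modules.pushforward i) ((eUD (i ⁻¹ᵁ W)).obj C) k ≪≫
      (Scheme.Modules.pushforward i).mapIso (WayOut.mapDerivedHomologyIso (CxOX.extZero (i ⁻¹ᵁ W).ι) C k))
  refine (mem_support_iff _ p).1 hp (IsZero.of_iso ?_ e)
  let M := (CxOX.extZero (i ⁻¹ᵁ W).ι).obj (DCoh.HD C k)
  by_cases hpi : p ∈ Set.range i.base
  · obtain ⟨x, rfl⟩ := hpi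
    haveI : Subsingleton (KFlat.PStalk (DCoh.toP.obj M) x) :=
      ModuleCat.subsingleton_of_isZero (RHomCx.isZero_stalk_extZero (i ⁻¹ᵁ W) _ x hW)
    haveI : Subsingleton ((DerSch.stalkFunctor P (i.base x)).obj ((Scheme.Modules.pushforward i).obj M)) :=
      (KFlat.pushStalk_bijective i x M).1.subsingleton
    exact ModuleCat.isZero_of_subsingleton _
  · haveI : Subsingleton ((DerSch.stalkFunctor P p).obj ((Scheme.Modules.pushforward i).obj M)) :=
      KFlat.subsingleton_stalk_push i M hpi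
    exact ModuleCat.isZero_of_subsingleton _

/-- restriction is bijective on maps out of an object supported in the open -/
theorem bijective_RD_of_supp (W : P.Opens) {Y : DCoh.D P} (h : SuppD (W : Set P) Y) (L : DCoh.D P) :
    Function.Bijective ((RD W.ι).map : (Y ⟶ L) → _) := by
  haveI := isIso_counit_of_supp W h
  exact RigidD.bijective_map_of_iso (RD W.ι) (asIso ((adjD W).counit.app Y)) (Iso.refl L) (bijective_restrict_map W _ L)

variable (i : Z ⟶ P) [IsClosedImmersion i] {T : DCoh.D Z} {L : DCoh.D P} (ξ : (PD i).obj T ⟶ L)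

/-- the restriction of `ξ` to an open -/
noncomputable def xiRes (W : P.Opens) : (PD (i ∣_ W)).obj ((RD (i ⁻¹ᵁ W).ι).obj T) ⟶ (RD W.ι).obj L :=
  (RelPCS.pdRestrIso i W).inv.app T ≫ (RD W.ι).map ξ

/-- a generator can be tested after restriction -/
theorem bijective_gen (W : P.Opens) (m : ℤ)
    (h : Function.Bijective fun ψ : (RD (i ⁻¹ᵁ W).ι).obj (gen (i ⁻¹ᵁ W) m) ⟶ (RD (i ⁻¹ᵁ W).ι).obj T =>
      (PD (i ∣_ W)).map ψ ≫ xiRes i ξ W) :
    Function.Bijective fun g : gen (i ⁻¹ᵁ W) m ⟶ T => (PD i).map g ≫ ξ := by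
  refine (Function.Bijective.of_comp_iff' (bijective_RD_of_supp W (suppD_pd i W _) L) _).1 ?_
  let θ := (RelPCS.pdRestrIso i W).app (gen (i ⁻¹ᵁ W) m)
  have hfun : (RD W.ι).map ∘ (fun g : gen (i ⁻¹ᵁ W) m ⟶ T => (PD i).map g ≫ ξ) =
      (fun z => θ.hom ≫ z) ∘ (fun ψ => (PD (i ∣_ W)).map ψ ≫ xiRes i ξ W) ∘ (RD (i ⁻¹ᵁ W).ι).map := funext fun g => by
    have hn := (RelPCS.pdRestrIso i W).hom.naturality g
    simp only [Functor.comp_map] at hn
    simp only [Function.comp_apply, xiRes, Functor.map_comp, θ, Iso.app_hom]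
    rw [← reassoc_of% hn]
    erw [Iso.hom_inv_id_app_assoc]
  rw [hfun]
  exact θ.symm.homFromEquiv.bijective.comp (h.comp (bijective_restrict_map _ _ T))

/-- **a map bijective on the generators is bijective everywhere** -/
theorem bijective_of_gen (B : Set Z.Opens) (hB : Conormal.IsBasisFam B)
    (h : ∀ U ∈ B, ∀ m : ℤ, Function.Bijective fun g : gen U m ⟶ T => (PD i).map g ≫ ξ) (M : DCoh.D Z) :
    Function.Bijective fun g : M ⟶ T => (PD i).map g ≫ ξ := by
  haveI : Dual3.HasHomO i := S3630.result Z P i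
  obtain ⟨J, f, hJ, hf, -, -⟩ := KInj.exists_kInjective
    ((DerivedCategory.Q : CochainComplex P.Modules ℤ ⥤ _).objPreimage L)
  haveI := hJ
  haveI := hf
  let e : DerivedCategory.Q.obj J ≅ L :=
    (asIso (DerivedCategory.Q.map f)).symm ≪≫ DerivedCategory.Q.objObjPreimageIso L
  let c := DualCx.raCounit (Dual3.homOAdj i) J ≫ e.hom
  have hc : ∀ N, Function.Bijective fun v : N ⟶ _ => (PD i).map v ≫ c := fun N => by
    have := e.homToEquiv.bijective.comp (DualCx.raCounit_bijective (Dual3.homOAdj i) J N)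
    convert this using 1
    funext v
    exact (Category.assoc _ _ _).symm
  obtain ⟨u, hu⟩ := (hc T).2 ξ
  have hfun : ∀ N, (fun g : N ⟶ T => (PD i).map g ≫ ξ) = (fun v => (PD i).map v ≫ c) ∘ fun g : N ⟶ T => g ≫ u :=
    fun N => funext fun g => by
      show _ = (PD i).map (g ≫ u) ≫ c
      rw [Functor.map_comp, Category.assoc]
      exact congrArg _ hu.symm
  haveI : IsIso u := isIso_of_bijective B hB u fun U hU m => by
    have h1 := h U hU m
    rw [hfun] at h1
    exact (Function.Bijective.of_comp_iff' (hc _) _).1 h1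
  rw [hfun]
  exact (hc M).comp (asIso u).homToEquiv.bijective

omit [IsClosedImmersion i] in
/-- the shifted form used by `IsRelDualizingPair` -/
theorem bijective_shift [PreservesFiniteLimits (Scheme.Modules.pushforward i)]
    [PreservesFiniteColimits (Scheme.Modules.pushforward i)] {T : DCoh.D Z} {L : DCoh.D P}
    (ξ : (Dual3.pushD i).obj T ⟶ L) (h : ∀ M, Function.Bijective fun g : M ⟶ T => (Dual3.pushD i).map g ≫ ξ)
    (M : DCoh.D Z) (j : ℤ) : Function.Bijective fun φ : M ⟶ T⟦j⟧ => (Dual3.pushD i).map φ ≫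
      ((Dual3.pushD i).commShiftIso j).hom.app T ≫ (shiftFunctor (DCoh.D P) j).map ξ := by
  let e : (M⟦-j⟧)⟦j⟧ ≅ M := (shiftFunctorCompIsoId (DCoh.D Z) (-j) j (by omega)).app M
  let eP := ((Dual3.pushD i).commShiftIso j).app (M⟦-j⟧)
  let S : (M⟦-j⟧ ⟶ T) ≃ (M ⟶ T⟦j⟧) :=
    ((Functor.FullyFaithful.ofFullyFaithful (shiftFunctor (DCoh.D Z) j)).homEquiv).trans e.homFromEquiv
  refine (Function.Bijective.of_comp_iff _ S.bijective).1 ?_
  have hfun : ((fun φ : M ⟶ T⟦j⟧ => (Dual3.pushD i).map φ ≫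
      ((Dual3.pushD i).commShiftIso j).hom.app T ≫ (shiftFunctor (DCoh.D P) j).map ξ) ∘ S) =
      (fun z => ((Dual3.pushD i).map e.inv ≫ eP.hom) ≫ z) ∘ (shiftFunctor (DCoh.D P) j).map ∘
        fun g : M⟦-j⟧ ⟶ T => (Dual3.pushD i).map g ≫ ξ := funext fun g => by
    have hn := ((Dual3.pushD i).commShiftIso j).hom.naturality g
    simp only [Functor.comp_map] at hn
    show (Dual3.pushD i).map (e.inv ≫ g⟦j⟧') ≫ _ = ((Dual3.pushD i).map e.inv ≫ eP.hom) ≫
      ((Dual3.pushD i).map g ≫ ξ)⟦j⟧'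
    simp only [Functor.map_comp, Category.assoc, eP, Iso.app_hom]
    rw [reassoc_of% hn]
  rw [hfun]
  exact ((asIso ((Dual3.pushD i).map e.inv ≫ eP.hom)).symm.homFromEquiv.bijective).comp
    (((Functor.FullyFaithful.ofFullyFaithful (shiftFunctor (DCoh.D P) j)).map_bijective _ _).comp (h _))

end Groth.Agent.RelDual3
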