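import Groth.Agent.RelDual3.Shriek
import Groth.Agent.RelPerfAffine.Main
import Groth.Agent.PerfGen.HocolimPC
import Groth.Agent.TildeKFlat.Lpull
import Groth.Agent.S1793

/-!
A relative dualizing complex is one on affine charts.
-/

set_option autoImplicit false
set_option backward.isDefEq.respectTransparency false
set_option backward.isDefEq.respectTransparency.types false
set_option linter.style.haveILetI false
set_option linter.unusedSectionVars false
set_option maxHeartbeats 1600000

universe u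

open CategoryTheory Limits AlgebraicGeometry TensorProduct

attribute [local instance] HasDerivedCategory.standard

namespace Groth.Agent.RelDual3

open Groth.Agent.DQCoh (RD rdComp rdCongr)
open Groth.Agent.RelPCS (PD)
open Groth.Agent.PerfGen

/-- scalars restricted along the identity -/
theorem nonempty_restrictD_id {S : Type u} [CommRing S] (φ : S →+* S) (h : φ = RingHom.id S) (K : Dual.D S) :
    Nonempty ((DRing.restrictD φ).obj K ≅ K) := by
  subst h
  let C := DerivedCategory.Q.objPreimage K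
  let eC := DerivedCategory.Q.objObjPreimageIso K
  exact ⟨(DRing.restrictD _).mapIso eC.symm ≪≫
    (ModuleCat.restrictScalars.{u} (RingHom.id S)).mapDerivedCategoryFactors.app C ≪≫
    DerivedCategory.Q.mapIso (HomologicalComplex.Hom.isoOfComponents
      (fun n => (ModuleCat.restrictScalarsId'.{u} (RingHom.id S) rfl).app (C.X n))
      fun p q _ => ((ModuleCat.restrictScalarsId'.{u} (RingHom.id S) rfl).hom.naturality (C.d p q)).symm) ≪≫ eC⟩

/-- tor amplitude is reflected by bijections of rings -/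
theorem amp_of_bijective' {R S : Type u} [CommRing R] [CommRing S] (φ : R →+* S) (hφ : Function.Bijective φ)
    {a b : ℤ} {K : Dual.D S} (h : DRing.HasTorAmplitudeIn R a b ((DRing.restrictD φ).obj K)) :
    DRing.HasTorAmplitudeIn S a b K := by
  let ψ := (RingEquiv.ofBijective φ hφ).symm.toRingHom
  have hc : φ.comp ψ = RingHom.id S := RingHom.ext fun x => (RingEquiv.ofBijective φ hφ).apply_symm_apply x
  obtain ⟨e⟩ := nonempty_restrictD_id (RingHom.id S) rfl K
  exact DRingKP.amp_of_iso ((Shriek.restrictDComp ψ φ (RingHom.id S) hc).app K ≪≫ e)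
    (ShriekAffine.amp_of_bijective ψ (RingEquiv.ofBijective φ hφ).symm.bijective h)

/-- tor amplitude over the base restricts to a pair of open charts -/
theorem relAmpAt_chart' {U V X Y : Scheme.{u}} (f : X ⟶ Y) (w : U ⟶ X) [IsOpenImmersion w] (v : V ⟶ Y)
    [IsOpenImmersion v] (g : U ⟶ V) (hw : g ≫ v = w ≫ f) {a b : ℤ} (K : DCoh.D X) (z : U)
    (h : DQCoh.RelAmpAt f a b K (w.base z)) : DQCoh.RelAmpAt g a b ((RD w).obj K) z := by
  let F := (DerivedCategory.Q (C := X.Modules)).objPreimage K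
  let eF := (DerivedCategory.Q (C := X.Modules)).objObjPreimageIso K
  have h1 : DQCoh.RelAmpAt (w ≫ f) a b ((RD w).obj K) z := by
    refine DRingKP.amp_of_iso ?_ h
    exact ((DQCoh.stA (w ≫ f) z).mapDerivedCategory.mapIso ((RD w).mapIso eF.symm ≪≫
        (Scheme.Modules.restrictFunctor w).mapDerivedCategoryFactors.app F) ≪≫
      (DQCoh.stA (w ≫ f) z).mapDerivedCategoryFactors.app _ ≪≫
      DerivedCategory.Q.mapIso (show ((DQCoh.stA (w ≫ f) z).mapHomologicalComplex (ComplexShape.up ℤ)).obj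
          (((Scheme.Modules.restrictFunctor w).mapHomologicalComplex (ComplexShape.up ℤ)).obj F) ≅
          ((DQCoh.stA f (w.base z)).mapHomologicalComplex (ComplexShape.up ℤ)).obj F from
        HomologicalComplex.Hom.isoOfComponents (fun n => (ShriekAffine.stAOpenIso f w z).app (F.X n))
          fun p q _ => ((ShriekAffine.stAOpenIso f w z).hom.naturality (F.d p q)).symm) ≪≫
      ((DQCoh.stA f (w.base z)).mapDerivedCategoryFactors.app F).symm ≪≫
      (DQCoh.stA f (w.base z)).mapDerivedCategory.mapIso eF).symm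
  have key : ∀ (k : U ⟶ Y), k = g ≫ v → DQCoh.RelAmpAt k a b ((RD w).obj K) z →
      DQCoh.RelAmpAt g a b ((RD w).obj K) z := by
    rintro k rfl hk
    let e : DQCoh.stA (g ≫ v) z ≅ DQCoh.stA g z ⋙ ModuleCat.restrictScalars.{u} (v.stalkMap (g.base z)).hom :=
      Functor.isoWhiskerLeft _ (ModuleCat.restrictScalarsComp'.{u} (v.stalkMap (g.base z)).hom
        (g.stalkMap z).hom ((g ≫ v).stalkMap z).hom (congrArg CommRingCat.Hom.hom (Scheme.Hom.stalkMap_comp g v z))) ≪≫
        (Functor.associator _ _ _).symm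
    let G := (DerivedCategory.Q (C := U.Modules)).objPreimage ((RD w).obj K)
    let eG := (DerivedCategory.Q (C := U.Modules)).objObjPreimageIso ((RD w).obj K)
    refine amp_of_bijective' (v.stalkMap (g.base z)).hom
      (ConcreteCategory.bijective_of_isIso (v.stalkMap (g.base z))) (DRingKP.amp_of_iso ?_ hk)
    exact ((DRing.restrictD _).mapIso ((DQCoh.stA g z).mapDerivedCategory.mapIso eG.symm ≪≫
        (DQCoh.stA g z).mapDerivedCategoryFactors.app G) ≪≫
      (ModuleCat.restrictScalars.{u} (v.stalkMap (g.base z)).hom).mapDerivedCategoryFactors.app _ ≪≫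
      DerivedCategory.Q.mapIso (show ((ModuleCat.restrictScalars.{u} (v.stalkMap (g.base z)).hom).mapHomologicalComplex
          (ComplexShape.up ℤ)).obj (((DQCoh.stA g z).mapHomologicalComplex (ComplexShape.up ℤ)).obj G) ≅
          ((DQCoh.stA (g ≫ v) z).mapHomologicalComplex (ComplexShape.up ℤ)).obj G from
        HomologicalComplex.Hom.isoOfComponents (fun n => (e.app (G.X n)).symm)
          fun p q _ => (e.inv.naturality (G.d p q)).symm) ≪≫
      ((DQCoh.stA (g ≫ v) z).mapDerivedCategoryFactors.app G).symm ≪≫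
      (DQCoh.stA (g ≫ v) z).mapDerivedCategory.mapIso eG).symm
  exact key (w ≫ f) hw.symm h1

/-- supports of direct images along closed immersions -/
theorem suppD_pd_image {Z P : Scheme.{u}} (i : Z ⟶ P) [IsClosedImmersion i] {M : DCoh.D Z} {T : Set Z}
    (h : SuppD T M) : SuppD (i.base '' T) ((PD i).obj M) := fun k p hp => by
  obtain ⟨x, rfl⟩ := suppD_pd_range i M k hp
  refine ⟨x, not_not.1 fun hxT => (mem_support_iff _ _).1 hp ?_, rfl⟩
  refine IsZero.of_iso ?_ ((DerSch.stalkFunctor P (i.base x)).mapIso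
    (WayOut.mapDerivedHomologyIso (Scheme.Modules.pushforward i) M k))
  haveI : Subsingleton (KFlat.PStalk (DCoh.toP.obj (DCoh.HD M k)) x) :=
    ModuleCat.subsingleton_of_isZero (not_not.1 fun hh => hxT (h k ((mem_support_iff _ x).2 hh)))
  haveI : Subsingleton ((DerSch.stalkFunctor P (i.base x)).obj ((Scheme.Modules.pushforward i).obj (DCoh.HD M k))) :=
    (KFlat.pushStalk_bijective i x (DCoh.HD M k)).1.subsingleton
  exact ModuleCat.isZero_of_subsingleton _

/-- extensions by zero are supported in the open -/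
theorem suppD_eUD {Z : Scheme.{u}} (U : Z.Opens) (C : DCoh.D (U : Scheme.{u})) :
    SuppD (U : Set Z) ((RigidD.eUD U).obj C) := fun k x hx => not_not.1 fun hxU =>
  (mem_support_iff _ x).1 hx ((RHomCx.isZero_stalk_extZero U _ x hxU).of_iso ((DerSch.stalkFunctor Z x).mapIso
    (WayOut.mapDerivedHomologyIso (CxOX.extZero U.ι) C k)))

variable {X S : Scheme.{u}} (f : X ⟶ S) [Flat f] [LocallyOfFinitePresentation f] [IsSeparated f]
  [DCoh.HasLpull (pullback.fst f f)]
  [PreservesFiniteLimits (Scheme.Modules.pushforward (pullback.diagonal f))]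
  [PreservesFiniteColimits (Scheme.Modules.pushforward (pullback.diagonal f))]
  {K : DCoh.D X} (hK : Dual3.IsRelDualizing f K) {R A : Type u} [CommRing R] [CommRing A] [Algebra R A]
  [Module.Flat R A] [Algebra.FinitePresentation R A] (v : Spec (CommRingCat.of R) ⟶ S) [IsOpenImmersion v]
  (w : Spec (CommRingCat.of A) ⟶ X) [IsOpenImmersion w]
  (hw : Spec.map (CommRingCat.ofHom (algebraMap R A)) ≫ v = w ≫ f)

include hK hw

/-- **the chart of a relative dualizing complex** -/
theorem exists_isRelDualizing_chart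
    [DRing.HasLBaseChange (Algebra.TensorProduct.includeLeftRingHom : A →+* A ⊗[R] A)] :
    ∃ M : Dual.D A, Nonempty ((RD w).obj K ≅ (DCoh.tildeD (CommRingCat.of A)).obj M) ∧
      Dual2.IsRelPerfect R A M ∧
      Shriek.RA (Algebra.TensorProduct.lmul' R (S := A)).toRingHom (Dual.inD A A)
        ((DRing.LBaseChange (Algebra.TensorProduct.includeLeftRingHom : A →+* A ⊗[R] A)).obj M) := by
  haveI := fun (S T : Type u) [CommRing S] [CommRing T] (φ : S →+* T) => DRingKP.hasLBaseChange φ
  haveI : ∀ (R : CommRingCat.{u}), PreservesFiniteLimits (tilde.functor R) := fun _ => QC.tilde_preservesFiniteLimits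
  obtain ⟨ξ, hpc, htor, hbij⟩ := hK
  have hpc' : ∀ m, DCoh.IsPseudoCoherentD m ((RD w).obj K) := fun m => DQCoh.pc_restrict w (hpc m)
  obtain ⟨hfull, hfaith, hqc⟩ := DQCoh.tildeD_affine (R := CommRingCat.of A)
  obtain ⟨M, ⟨eM⟩⟩ := (hqc _).1 (PerfGen.isQCohD_of_pc_all hpc')
  let eK : (RD w).obj K ≅ (DCoh.tildeD (CommRingCat.of A)).obj M := eM.symm
  refine ⟨M, ⟨eK⟩, ?_, ?_⟩
  · refine RelPerfAffine.isRelPerfect_of_sPerf (fun m => DQCoh.pc_of_iso eK (hpc' m)) ?_
    haveI := RelPerfAffine.flat_spec R A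
    rw [DQCoh.locHas_iff]
    intro z
    obtain ⟨V, a, b, hz, hV⟩ := DQCoh.locHas_iff.1 htor (w z)
    exact ⟨w ⁻¹ᵁ V, a, b, hz, fun y hy =>
      DQCoh.relAmpAt_of_iso eK (relAmpAt_chart' f w v _ hw K y (hV _ hy))⟩
  -- the chart of the self product
  let il : A →+* A ⊗[R] A := Algebra.TensorProduct.includeLeftRingHom
  let μ : A ⊗[R] A →+* A := (Algebra.TensorProduct.lmul' R (S := A)).toRingHom
  let sμ := Spec.map (CommRingCat.ofHom μ)
  haveI : IsClosedImmersion sμ := IsClosedImmersion.spec_of_surjective (CommRingCat.ofHom μ) fun a =>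
    ⟨a ⊗ₜ[R] 1, show Algebra.TensorProduct.lmul' R (S := A) (a ⊗ₜ[R] 1) = a by simp⟩
  let qq := Spec.map (CommRingCat.ofHom (algebraMap R A))
  let k : Spec (CommRingCat.of (A ⊗[R] A)) ⟶ pullback f f :=
    (pullbackSpecIso R A A).inv ≫ pullback.map qq qq f f w w v hw hw
  haveI : IsOpenImmersion k := inferInstanceAs (IsOpenImmersion
    ((pullbackSpecIso R A A).inv ≫ pullback.map qq qq f f w w v hw hw))
  let s := Spec.map (CommRingCat.ofHom il)
  have hk1 : k ≫ pullback.fst f f = s ≫ w := by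
    rw [Category.assoc, pullback.lift_fst, ← Category.assoc, pullbackSpecIso_inv_fst]
  have hk2 : k ≫ pullback.snd f f = Spec.map (CommRingCat.ofHom
      (Algebra.TensorProduct.includeRight : A →ₐ[R] A ⊗[R] A).toRingHom) ≫ w := by
    rw [Category.assoc, pullback.lift_snd, ← Category.assoc, pullbackSpecIso_inv_snd]
    rfl
  have hμl : μ.comp il = RingHom.id A := RingHom.ext fun a => by
    show Algebra.TensorProduct.lmul' R (S := A) (a ⊗ₜ[R] 1) = a
    simp
  have hμr : μ.comp (Algebra.TensorProduct.includeRight : A →ₐ[R] A ⊗[R] A).toRingHom = RingHom.id A :=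
    RingHom.ext fun a => by
      show Algebra.TensorProduct.lmul' R (S := A) (1 ⊗ₜ[R] a) = a
      simp
  have hd : sμ ≫ k = w ≫ pullback.diagonal f := by
    apply pullback.hom_ext
    · rw [Category.assoc, hk1, ← Category.assoc, ← Spec.map_comp, ← CommRingCat.ofHom_comp, hμl, Category.assoc,
        pullback.diagonal_fst, Category.comp_id, CommRingCat.ofHom_id, Spec.map_id, Category.id_comp]
    · rw [Category.assoc, hk2, ← Category.assoc, ← Spec.map_comp, ← CommRingCat.ofHom_comp, hμr, Category.assoc,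
        pullback.diagonal_snd, Category.comp_id, CommRingCat.ofHom_id, Spec.map_id, Category.id_comp]
  have hr : w.opensRange = pullback.diagonal f ⁻¹ᵁ k.opensRange := by
    ext x
    constructor
    · rintro ⟨z, rfl⟩
      exact ⟨sμ z, congr($hd z)⟩
    · rintro ⟨z, hz⟩
      refine ⟨s z, ?_⟩
      have h1 : pullback.fst f f (k z) = w (s z) := congr($hk1 z)
      rw [hz] at h1
      exact h1.symm.trans (congr($(pullback.diagonal_fst f) x))
  let Δ := pullback.diagonal f
  let O := DCoh.inD X (Coh.structureModule X)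
  let τ : PD Δ ⋙ RD k ≅ RD w ⋙ PD sμ := RelPCS.pdBcIso Δ sμ k w hd hr
  obtain ⟨eO⟩ := DualSch.nonempty_restrict_structureModule (X := X) (A := A) w
  haveI := KFlat.hasLpull s
  haveI := KFlat.hasLpull (s ≫ w)
  obtain ⟨e1⟩ := ShriekAffine.nonempty_RD_lpull k (pullback.fst f f) (s ≫ w) hk1 K
  obtain ⟨e2⟩ := ShriekAffine.nonempty_lpull_RD s w (s ≫ w) rfl K
  obtain ⟨et⟩ := TildeKFlat.nonempty_lpull_tildeD il
  let eL : (RD k).obj ((DCoh.Lpull (pullback.fst f f)).obj K) ≅
      (DCoh.tildeD (CommRingCat.of (A ⊗[R] A))).obj ((DRing.LBaseChange il).obj M) :=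
    e1 ≪≫ e2.symm ≪≫ (DCoh.Lpull s).mapIso eK ≪≫ (et.app _).symm
  haveI := hfull
  haveI := hfaith
  obtain ⟨hfull', hfaith', -⟩ := DQCoh.tildeD_affine (R := CommRingCat.of (A ⊗[R] A))
  haveI := hfull'
  haveI := hfaith'
  let T := DCoh.tildeD (CommRingCat.of A)
  let T' := DCoh.tildeD (CommRingCat.of (A ⊗[R] A))
  let π := RelPCS.pdTildeIso μ
  let F := fun (N : Dual.D A) (φ : N ⟶ Dual.inD A A) => (PD sμ).map (T.map φ ≫ eO.inv) ≫
    τ.inv.app O ≫ (RD k).map ξ ≫ eL.hom
  have hF : ∀ N : Dual.D A, Function.Bijective (F N) := fun N => by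
    let iw := RigidD.rdEquiv w.isoOpensRange.hom
    let G := (RigidD.eUD w.opensRange).obj (iw.inverse.obj (T.obj N))
    haveI := RigidD.isIso_adjD_unit w.opensRange (iw.inverse.obj (T.obj N))
    let eG : (RD w).obj G ≅ T.obj N :=
      (rdCongr (Scheme.Hom.isoOpensRange_hom_ι w).symm ≪≫ rdComp _ _).app G ≪≫
        iw.functor.mapIso (asIso ((RigidD.adjD w.opensRange).unit.app _)).symm ≪≫ iw.counitIso.app _
    have hG : SuppD (Set.range w.base) G := suppD_eUD w.opensRange _
    have hG' : SuppD (Set.range k.base) ((PD Δ).obj G) := suppD_mono (by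
      rintro _ ⟨x, hx, rfl⟩
      obtain ⟨z, rfl⟩ := hx
      exact ⟨sμ z, congr($hd z)⟩) (suppD_pd_image Δ hG)
    have hb : Function.Bijective fun φ : G ⟶ O => (PD Δ).map φ ≫ ξ := by
      have h := hbij G 0
      let z := (shiftFunctorZero (DCoh.D X) ℤ).app O
      have hfun : (fun φ : G ⟶ O => (PD Δ).map φ ≫ ξ) =
          (((shiftFunctorZero (DCoh.D (pullback f f)) ℤ).app ((DCoh.Lpull (pullback.fst f f)).obj K)).homToEquiv ∘
            (fun φ : G ⟶ O⟦(0 : ℤ)⟧ => (Dual3.pushD Δ).map φ ≫ ((Dual3.pushD Δ).commShiftIso (0 : ℤ)).hom.app O ≫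
              (shiftFunctor (DCoh.D (pullback f f)) (0 : ℤ)).map ξ)) ∘ z.symm.homToEquiv := funext fun φ => by
        have hn := (shiftFunctorZero (DCoh.D (pullback f f)) ℤ).hom.naturality ξ
        simp only [Functor.id_map] at hn
        simp only [Function.comp_apply, Iso.homToEquiv_apply, Iso.symm_hom, Functor.map_comp, Category.assoc,
          Functor.commShiftIso_zero, Functor.CommShift.isoZero_hom_app, z, Iso.app_inv, Iso.app_hom]
        rw [hn]
        erw [Iso.inv_hom_id_app_assoc]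
        exact congrArg ((Dual3.pushD Δ).map φ ≫ ·)
          (((Dual3.pushD Δ).mapIso ((shiftFunctorZero (DCoh.D X) ℤ).app O)).inv_hom_id_assoc ξ).symm
      rw [hfun]
      exact ((Equiv.bijective _).comp h).comp (Equiv.bijective _)
    let E : (G ⟶ O) → (N ⟶ Dual.inD A A) := fun φ => T.preimage (eG.inv ≫ (RD w).map φ ≫ eO.hom)
    have hE : Function.Bijective E :=
      ((Functor.FullyFaithful.ofFullyFaithful T).homEquiv.symm.bijective.comp
        (Iso.homCongr eG eO).bijective).comp (bijective_RD_of_range w hG O)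
    refine (Function.Bijective.of_comp_iff _ hE).1 ?_
    have hfun : F N ∘ E = (fun q => ((PD sμ).map eG.inv ≫ τ.inv.app G) ≫ q ≫ eL.hom) ∘
        (RD k).map ∘ fun φ : G ⟶ O => (PD Δ).map φ ≫ ξ := funext fun φ => by
      have hn := τ.inv.naturality φ
      simp only [Functor.comp_map] at hn
      simp only [F, E, Function.comp_apply, Functor.map_preimage, Functor.map_comp, Category.assoc]
      rw [← Functor.map_comp_assoc (PD sμ) eO.hom eO.inv, eO.hom_inv_id, CategoryTheory.Functor.map_id,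
        Category.id_comp, reassoc_of% hn]
    rw [hfun]
    exact (Iso.homCongr (asIso ((PD sμ).map eG.inv ≫ τ.inv.app G)).symm eL).bijective.comp
      ((bijective_RD_of_range k hG' _).comp hb)
  let c : (DRing.restrictD μ).obj (Dual.inD A A) ⟶ (DRing.LBaseChange il).obj M :=
    T'.preimage (π.inv.app (Dual.inD A A) ≫ F _ (𝟙 _))
  refine ⟨c, fun N => ?_⟩
  have hfun : T'.map ∘ Shriek.tr μ c N = (fun z => π.inv.app N ≫ z) ∘ F N := funext fun φ => by
    have hn := π.inv.naturality φ
    simp only [Functor.comp_map] at hn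
    show T'.map ((DRing.restrictD μ).map φ ≫ c) = π.inv.app N ≫ F N φ
    simp only [c, F, Functor.map_comp, Functor.map_preimage, CategoryTheory.Functor.map_id, Category.id_comp,
      Category.assoc]
    rw [reassoc_of% hn]
  refine (Function.Bijective.of_comp_iff' ((Functor.FullyFaithful.ofFullyFaithful T').map_bijective _ _) _).1 ?_
  rw [hfun]
  exact ((π.app N).symm.symm.homFromEquiv).bijective.comp (hF N)

/-- **relative dualizing complexes are locally rigid** -/
theorem rigid_chart : ∃ M : Dual.D A, Nonempty ((RD w).obj K ≅ (DCoh.tildeD (CommRingCat.of A)).obj M) ∧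
    Function.Bijective (fun a : A => a • 𝟙 M) ∧ ∀ i : ℤ, i ≠ 0 → Subsingleton (M ⟶ M⟦i⟧) := by
  haveI := fun (S T : Type u) [CommRing S] [CommRing T] (φ : S →+* T) => DRingKP.hasLBaseChange φ
  obtain ⟨M, eM, hp, hra⟩ := exists_isRelDualizing_chart f hK v w hw
  obtain ⟨Rμ, ⟨adjμ⟩⟩ := ShriekAffine.exists_adjoint (Algebra.TensorProduct.lmul' R (S := A)).toRingHom
  have e2 := Shriek.RA.unique (Shriek.RA.of_adj adjμ _) hra
  exact ⟨M, eM, S1793.result R A Rμ adjμ M ⟨hp, e2⟩⟩

end Groth.Agent.RelDual3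

namespace Groth.Agent.RelDual3

open Groth.Agent.DQCoh (RD)

/-- affine charts over affine opens of the base, inside a given open -/
theorem exists_chart {X S : Scheme.{u}} (f : X ⟶ S) [Flat f] [LocallyOfFinitePresentation f] (x : X) (W : X.Opens)
    (hxW : x ∈ W) :
    ∃ (R A : Type u) (_ : CommRing R) (_ : CommRing A) (_ : Algebra R A) (_ : Module.Flat R A)
      (_ : Algebra.FinitePresentation R A) (v : Spec (CommRingCat.of R) ⟶ S) (_ : IsOpenImmersion v)
      (w : Spec (CommRingCat.of A) ⟶ X) (_ : IsOpenImmersion w),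
      x ∈ Set.range w ∧ Set.range w ⊆ W ∧ Spec.map (CommRingCat.ofHom (algebraMap R A)) ≫ v = w ≫ f := by
  obtain ⟨V, hV, hxV, -⟩ := exists_isAffineOpen_mem_and_subset (show f x ∈ (⊤ : S.Opens) from trivial)
  obtain ⟨U, hU, hxU, hUV⟩ := exists_isAffineOpen_mem_and_subset (show x ∈ W ⊓ f ⁻¹ᵁ V from ⟨hxW, hxV⟩)
  have e : U ≤ f ⁻¹ᵁ V := fun y hy => (hUV hy).2
  letI := (f.appLE V U e).hom.toAlgebra
  refine ⟨Γ(S, V), Γ(X, U), inferInstance, inferInstance, inferInstance, Flat.flat_appLE f hV hU e, ?_,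
    hV.fromSpec, inferInstance, hU.fromSpec, inferInstance, ?_, ?_, hV.SpecMap_appLE_fromSpec f hU e⟩
  · exact RingHom.finitePresentation_algebraMap.1 (f.finitePresentation_appLE hV hU e)
  · exact ⟨hU.primeIdealOf ⟨x, hxU⟩, hU.fromSpec_primeIdealOf ⟨x, hxU⟩⟩
  · exact hU.range_fromSpec.trans_subset fun y hy => (hUV hy).1

/-- **relative dualizing complexes are rigid** -/
theorem rigidNear {X S : Scheme.{u}} (f : X ⟶ S) [Flat f] [LocallyOfFinitePresentation f] [IsSeparated f]
    [DCoh.HasLpull (pullback.fst f f)] [PreservesFiniteLimits (Scheme.Modules.pushforward (pullback.diagonal f))]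
    [PreservesFiniteColimits (Scheme.Modules.pushforward (pullback.diagonal f))] {K : DCoh.D X}
    (hK : Dual3.IsRelDualizing f K) (x : X) (W : X.Opens) (hx : x ∈ W) : RigidD.RigidNear K x W := by
  obtain ⟨R, A, _, _, _, _, _, v, _, w, hwo, hxw, hW, hw⟩ := exists_chart f x W hx
  obtain ⟨M, e, h0, h1⟩ := rigid_chart f hK v w hw
  exact ⟨A, _, w, hwo, M, hxw, hW, e, h0, h1⟩

end Groth.Agent.RelDual3
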