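import Groth.Agent.RelDual3.Trace
import Groth.Agent.Dual3BCR.Main
import Groth.Agent.DCohShriek.SuppApps
import Groth.Agent.ShriekAffine.RelPerf
import Groth.Agent.ShriekAffine.Fibre

/-!
`f^! O` is a relative dualizing complex.
-/

set_option autoImplicit false
set_option backward.isDefEq.respectTransparency false
set_option backward.isDefEq.respectTransparency.types false
set_option linter.style.haveILetI false
set_option linter.unusedSectionVars false
set_option maxHeartbeats 1600000

universe u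

open CategoryTheory Limits AlgebraicGeometry

attribute [local instance] HasDerivedCategory.standard

namespace Groth.Agent.RelDual3

open Groth.Agent.DQCoh (RD rdComp rdCongr)
open Groth.Agent.RelPCS (PD)
open Groth.Agent.PerfGen

/-- restriction along an open immersion is bijective on maps out of objects supported in its range -/
theorem bijective_RD_of_range {U P : Scheme.{u}} (k : U ⟶ P) [IsOpenImmersion k] {Y : DCoh.D P}
    (h : SuppD (Set.range k.base) Y) (L : DCoh.D P) : Function.Bijective ((RD k).map : (Y ⟶ L) → _) := by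
  have hk : k.isoOpensRange.hom ≫ k.opensRange.ι = k := Scheme.Hom.isoOpensRange_hom_ι k
  refine RigidD.bijective_map_natIso ((rdComp k.isoOpensRange.hom k.opensRange.ι).symm ≪≫ rdCongr hk) ?_
  exact ((Functor.FullyFaithful.ofFullyFaithful (RigidD.rdEquiv k.isoOpensRange.hom).functor).map_bijective _ _).comp
    (bijective_RD_of_supp k.opensRange h L)

/-- `i_*` is supported in the range -/
theorem suppD_pd_range {Z P : Scheme.{u}} (i : Z ⟶ P) [IsClosedImmersion i] (M : DCoh.D Z) :
    SuppD (Set.range i.base) ((PD i).obj M) := fun k => by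
  rw [ClSubLib.support_congr (WayOut.mapDerivedHomologyIso (Scheme.Modules.pushforward i) M k)]
  exact ClSubLib.support_pushforward_subset i _

/-- rigidity restricts to opens containing the image -/
theorem exists_xi_restrict {X P Q : Scheme.{u}} (i : X ⟶ P) [IsClosedImmersion i] (j : P ⟶ Q) [IsOpenImmersion j]
    (i' : X ⟶ Q) [IsClosedImmersion i'] (hij : i ≫ j = i') {T : DCoh.D X} {L : DCoh.D Q} {L' : DCoh.D P}
    (ε : (RD j).obj L ≅ L') (ξ : (PD i').obj T ⟶ L)
    (h : ∀ M, Function.Bijective fun φ : M ⟶ T => (PD i').map φ ≫ ξ) :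
    ∃ ζ : (PD i).obj T ⟶ L', ∀ M, Function.Bijective fun φ : M ⟶ T => (PD i).map φ ≫ ζ := by
  have hr : (𝟙 X : X ⟶ X).opensRange = i' ⁻¹ᵁ j.opensRange := by
    ext x
    constructor
    · exact fun _ => ⟨i x, by rw [← hij]; rfl⟩
    · exact fun _ => ⟨x, rfl⟩
  let τ : PD i' ⋙ RD j ≅ PD i :=
    RelPCS.pdBcIso i' i j (𝟙 X) (by rw [hij, Category.id_comp]) hr ≪≫
      Functor.isoWhiskerRight (PerfGen.rdId X) _ ≪≫ Functor.leftUnitor _
  refine ⟨τ.inv.app T ≫ (RD j).map ξ ≫ ε.hom, fun M => ?_⟩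
  have hfun : (fun φ : M ⟶ T => (PD i).map φ ≫ τ.inv.app T ≫ (RD j).map ξ ≫ ε.hom) =
      (fun z => τ.inv.app M ≫ z ≫ ε.hom) ∘ (RD j).map ∘ fun φ => (PD i').map φ ≫ ξ := funext fun φ => by
    have hn := τ.inv.naturality φ
    simp only [Functor.comp_map] at hn
    simp only [Function.comp_apply, Functor.map_comp, Category.assoc]
    rw [reassoc_of% hn]
  rw [hfun]
  have hsupp : SuppD (Set.range j.base) ((PD i').obj M) :=
    suppD_mono (by rintro _ ⟨x, rfl⟩; exact ⟨i x, by rw [← hij]; rfl⟩) (suppD_pd_range i' M)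
  exact (Iso.homCongr (τ.app M) ε).bijective.comp ((bijective_RD_of_range j hsupp L).comp (h M))

/-- **`f^! O` is relatively dualizing** -/
theorem isRelDualizing_shriek {X Y : Scheme.{u}} [IsNoetherian X] [IsNoetherian Y] (f : X ⟶ Y) [Flat f]
    [LocallyOfFiniteType f] [IsSeparated f] [DCoh.HasLpull (pullback.fst f f)]
    [PreservesFiniteLimits (Scheme.Modules.pushforward (pullback.diagonal f))]
    [PreservesFiniteColimits (Scheme.Modules.pushforward (pullback.diagonal f))] (c : DEt.Compactification f)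
    [DCoh.HasRpush c.fbar] {hc : DCoh.RpushPreservesQCoh c.fbar} {a : DCoh.DQCoh Y ⥤ DCoh.DQCoh c.Xbar}
    (adj : DCoh.RpushQ c.fbar hc ⊣ a) {O : DCoh.DQCoh Y}
    (hO : Nonempty (O.obj ≅ DCoh.inD Y (Coh.structureModule Y))) :
    Dual3.IsRelDualizing f ((RD c.j).obj (a.obj O).obj) := by
  let p := pullback.snd c.fbar f
  let g' := pullback.fst c.fbar f
  haveI : IsProper c.fbar := inferInstance
  haveI : IsProper p := inferInstanceAs (IsProper (pullback.snd c.fbar f))
  haveI : Flat g' := inferInstanceAs (Flat (pullback.fst c.fbar f))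
  haveI : CompactSpace ↥(pullback c.fbar f) := QuasiCompact.compactSpace_of_compactSpace p
  haveI : QuasiSeparatedSpace ↥(pullback c.fbar f) := quasiSeparatedSpace_of_quasiSeparated p
  haveI := DCohShriek.isNoetherian_of_proper c.fbar
  haveI : QuasiCompact g' := quasiCompact_of_compactSpace g'
  haveI : QuasiCompact f := quasiCompact_of_compactSpace f
  haveI := DerPush.hasRpush_sch p
  haveI := DerPush.hasRpush_sch f
  haveI := DerPush.hasRpush_sch g'
  haveI := KFlat.hasLpull f
  haveI := KFlat.hasLpull g'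
  have hp : DCoh.RpushPreservesQCoh p := fun E hE => DQPush.isQCohD_rpush p hE
  have hf : DCoh.RpushPreservesQCoh f := fun E hE => DQPush.isQCohD_rpush f hE
  have hg' : DCoh.RpushPreservesQCoh g' := fun E hE => DQPush.isQCohD_rpush g' hE
  have hLf : Dual3.LpullPreservesQCoh f := fun E hE => DQCoh.isQCohD_Lpull f E hE
  have hLg' : Dual3.LpullPreservesQCoh g' := fun E hE => DQCoh.isQCohD_Lpull g' E hE
  haveI := DCohShriek.isLeftAdjoint_rpushQ p hp
  let adj' := Adjunction.ofIsLeftAdjoint (DCoh.RpushQ p hp)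
  let adjg := Dual3XI.adjQ hf hLf (FlatBCD.adjD f)
  let adjg' := Dual3XI.adjQ hg' hLg' (FlatBCD.adjD g')
  have hsq : IsPullback g' p c.fbar f := IsPullback.of_hasPullback c.fbar f
  obtain ⟨e, hP⟩ := Dual3BCR.exists_bcData (hf := hc) (hf' := hp) (hg := hf) (hg' := hg') (hLg := hLf) (hLg' := hLg')
    hsq adjg adjg'
  have hξ := Dual3XI.isIso_xi adj adj' e adjg adjg' hP
  have hbdd : ∀ {Z : Scheme.{u}} (K : DCoh.DQCoh Z), Nonempty (K.obj ≅ DCoh.inD Z (Coh.structureModule Z)) →
      DCohShriek.Bdd (some 0) K.obj := fun {Z} K ⟨eK⟩ c hc i hi => by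
    cases Option.mem_some_iff.1 hc
    exact (DCohShriek.isZero_HD_inD _ (ne_of_lt hi)).of_iso ((DerivedCategory.homologyFunctor _ i).mapIso eK)
  haveI := Dual3BCR.isIso_bcMap (hLg := hLf) hsq e adjg adjg' adj adj' (hP := hP) (DCohShriek.fin'_some c.fbar 0)
    (DCohShriek.fin'_some p 0) O (hbdd O hO) (hξ _)
  obtain ⟨eu⟩ := PerfPush.nonempty_lpull_unit f
  let eO : (Dual3.LpullQ f hLf).obj O ≅ RigidBase.unitQC X :=
    (ObjectProperty.fullyFaithfulι _).preimageIso ((DCoh.Lpull f).mapIso hO.some ≪≫ eu)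
  let u := (ObjectProperty.ι _).mapIso
    (asIso (Dual3.bcMap adj adj' e adjg adjg' O (hξ _)) ≪≫ ((DCoh.RpushQ p hp).rightAdjoint).mapIso eO)
  let jP : pullback f f ⟶ pullback c.fbar f :=
    pullback.lift (pullback.fst f f ≫ c.j) (pullback.snd f f) (by rw [Category.assoc, c.fac, pullback.condition])
  have hj1 : jP ≫ g' = pullback.fst f f ≫ c.j := pullback.lift_fst _ _ _
  have hj2 : jP ≫ p = pullback.snd f f := pullback.lift_snd _ _ _
  have hpb : IsPullback jP (pullback.fst f f) g' c.j := IsPullback.of_right (by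
    rw [hj2, c.fac]; exact (IsPullback.of_hasPullback f f).flip) hj1 hsq.flip
  haveI : IsOpenImmersion jP := MorphismProperty.of_isPullback (P := @IsOpenImmersion) hpb.flip inferInstance
  let Δ := pullback.diagonal f ≫ jP
  have hΔ : Δ ≫ p = 𝟙 X := by rw [Category.assoc, hj2, pullback.diagonal_snd]
  haveI : IsClosedImmersion Δ := by
    haveI : IsClosedImmersion (Δ ≫ p) := by rw [hΔ]; infer_instance
    exact IsClosedImmersion.of_comp Δ p
  obtain ⟨ξ, hξ'⟩ := exists_xi Δ p hΔ adj' (DCohShriek.fin'_some p 0) (hbdd (RigidBase.unitQC X) ⟨Iso.refl _⟩) u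
  haveI := KFlat.hasLpull (pullback.fst f f ≫ c.j)
  obtain ⟨e1⟩ := ShriekAffine.nonempty_RD_lpull jP g' (pullback.fst f f ≫ c.j) hj1 (a.obj O).obj
  obtain ⟨e2⟩ := ShriekAffine.nonempty_lpull_RD (pullback.fst f f) c.j (pullback.fst f f ≫ c.j) rfl (a.obj O).obj
  obtain ⟨ζ, hζ⟩ := exists_xi_restrict (pullback.diagonal f) jP Δ rfl (e1 ≪≫ e2.symm) ξ hξ'
  obtain ⟨hpc, htor⟩ := ShriekAffine.sPerf_shriek c adj hO
  exact ⟨ζ, hpc, htor, fun M j => bijective_shift (pullback.diagonal f) ζ hζ M j⟩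

end Groth.Agent.RelDual3
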