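import Groth.Agent.RelDual3.Criterion
import Groth.Agent.RigidBase.Chart
import Groth.Agent.S0922
import Groth.Agent.BCA.Trace
import Groth.Agent.DCohShriek.SuppApps
import Groth.Agent.PerfGen.QCohTri

/-!
`a(O)` is a relative dualizing complex in the rigid sense.
-/

set_option autoImplicit false
set_option backward.isDefEq.respectTransparency false
set_option backward.isDefEq.respectTransparency.types false
set_option linter.style.haveILetI false
set_option linter.unusedSectionVars false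
set_option maxHeartbeats 1600000

universe u

open CategoryTheory Limits AlgebraicGeometry

attribute [local instance] HasDerivedCategory.standard

namespace Groth.Agent.RelDual3

open Groth.Agent.DQCoh (RD)
open Groth.Agent.RelPCS (PD)

/-- derived direct image along the identity -/
theorem nonempty_rpush_id {X : Scheme.{u}} (k : X ⟶ X) (h : k = 𝟙 X) [DCoh.HasRpush k] :
    Nonempty (DCoh.Rpush k ≅ 𝟭 (DCoh.D X)) := by
  subst h
  haveI := KFlat.hasLpull (𝟙 X)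
  obtain ⟨a⟩ := DerPush.nonempty_lpull_adj_rpush (𝟙 X)
  let e : DCoh.Lpull (𝟙 X) ≅ 𝟭 (DCoh.D X) := a.leftAdjointUniq (PerfGen.adjR (𝟙 X)) ≪≫ PerfGen.rdId X
  exact ⟨(a.ofNatIsoLeft e).rightAdjointUniq Adjunction.id⟩

/-- `Rg_* i_* = R(g i)_*` -/
theorem nonempty_pd_rpush {Z P X : Scheme.{u}} (i : Z ⟶ P) [IsClosedImmersion i] (g : P ⟶ X) [DCoh.HasRpush g]
    [DCoh.HasRpush (i ≫ g)] : Nonempty (PD i ⋙ DCoh.Rpush g ≅ DCoh.Rpush (i ≫ g)) := by
  haveI := DerPush.hasRpush_sch i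
  obtain ⟨e⟩ := nonempty_pd_iso_rpush i
  obtain ⟨c⟩ := S0922.result i g
  exact ⟨Functor.isoWhiskerRight e _ ≪≫ c⟩

/-- `i_*` preserves quasi-coherence -/
theorem isQCohD_pd {Z P : Scheme.{u}} (i : Z ⟶ P) [IsClosedImmersion i] [CompactSpace Z] [QuasiSeparatedSpace Z]
    [CompactSpace P] [QuasiSeparatedSpace P] {C : DCoh.D Z} (hC : DCoh.IsQCohD C) : DCoh.IsQCohD ((PD i).obj C) := by
  haveI := DerPush.hasRpush_sch i
  obtain ⟨e⟩ := nonempty_pd_iso_rpush i
  exact PerfGen.isQCohD_of_iso (e.app C).symm (DQPush.isQCohD_rpush i hC)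

variable {X P : Scheme.{u}} [CompactSpace X] [QuasiSeparatedSpace X] [CompactSpace P] [QuasiSeparatedSpace P]
  (i : X ⟶ P) [IsClosedImmersion i] (g : P ⟶ X) [QuasiCompact g] [QuasiSeparated g]
  [DCoh.HasRpush g] (hi : i ≫ g = 𝟙 X) {hg : DCoh.RpushPreservesQCoh g}
  {b : DCoh.DQCoh X ⥤ DCoh.DQCoh P} (adj : DCoh.RpushQ g hg ⊣ b) {o : Option ℤ} (hfin : DCohShriek.Fin' o g)
  (hb : DCohShriek.Bdd o (RigidBase.unitQC X).obj) {L : DCoh.D P} (u : L ≅ (b.obj (RigidBase.unitQC X)).obj)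

include hi hg adj hfin hb u

/-- **the rigidifying map along a section of a proper flat morphism** -/
theorem exists_xi : ∃ ξ : (PD i).obj (DCoh.inD X (Coh.structureModule X)) ⟶ L, ∀ M : DCoh.D X,
    Function.Bijective fun φ : M ⟶ DCoh.inD X (Coh.structureModule X) => (PD i).map φ ≫ ξ := by
  let O := DCoh.inD X (Coh.structureModule X)
  have hO : DCoh.IsQCohD O := DCohShriek.isQCohD_inD (QC.isQCoh_unit X)
  haveI := DerPush.hasRpush_sch (i ≫ g)
  obtain ⟨c⟩ := nonempty_pd_rpush i g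
  obtain ⟨r⟩ := nonempty_rpush_id (i ≫ g) hi
  let θ := (c ≪≫ r).app O
  let t := DCohShriek.tr adj u.hom
  have hL : DCoh.IsQCohD L := PerfGen.isQCohD_of_iso u.symm (b.obj (RigidBase.unitQC X)).property
  have ht : BCA.UnivT t := (BCA.univT_tr_iff adj hL u.hom).2 inferInstance
  obtain ⟨ξ, hξ⟩ := (ht _ (isQCohD_pd i hO)).2 θ.hom
  have hξ' : (DCoh.Rpush g).map ξ ≫ t = θ.hom := hξ
  refine ⟨ξ, bijective_of_gen i ξ {U | IsAffineOpen U} (fun O z hz => ?_) fun U hU m => ?_⟩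
  · obtain ⟨V, hV, hzV, hVO⟩ := exists_isAffineOpen_mem_and_subset hz
    exact ⟨V, hV, hVO, hzV⟩
  suffices key : Function.Bijective fun φ : RigidD.gen (i ⁻¹ᵁ (g ⁻¹ᵁ U)) m ⟶ O => (PD i).map φ ≫ ξ by
    have hU' : i ⁻¹ᵁ (g ⁻¹ᵁ U) = U := by rw [← Scheme.Hom.comp_preimage, hi]; rfl
    rwa [hU'] at key
  refine bijective_gen i ξ _ m ?_
  haveI : IsAffine (U : Scheme.{u}) := hU
  haveI : CompactSpace (g ⁻¹ᵁ U) := isCompact_iff_compactSpace.1 (g.isCompact_preimage hU.isCompact)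
  haveI : QuasiSeparatedSpace (g ⁻¹ᵁ U) := quasiSeparatedSpace_of_quasiSeparated (g ⁻¹ᵁ U).ι
  haveI : CompactSpace (i ⁻¹ᵁ (g ⁻¹ᵁ U)) :=
    isCompact_iff_compactSpace.1 (i.isCompact_preimage (g.isCompact_preimage hU.isCompact))
  haveI : QuasiSeparatedSpace (i ⁻¹ᵁ (g ⁻¹ᵁ U)) := quasiSeparatedSpace_of_quasiSeparated (i ⁻¹ᵁ (g ⁻¹ᵁ U)).ι
  haveI := DerPush.hasRpush_sch (g ∣_ U)
  let i' := i ∣_ (g ⁻¹ᵁ U)
  have hgU : DCoh.RpushPreservesQCoh (g ∣_ U) := fun M hM => DQPush.isQCohD_rpush (g ∣_ U) hM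
  haveI := DCohShriek.isLeftAdjoint_rpushQ (g ∣_ U) hgU
  let adjU := Adjunction.ofIsLeftAdjoint (DCoh.RpushQ (g ∣_ U) hgU)
  haveI := DCohShriek.isIso_thetaApp g adj U adjU hfin hU.isCompact (RigidBase.unitQC X) hb
  have ht' : BCA.UnivT (f := g ∣_ U) ((DQPush.rpushRestrIso g U).inv.app L ≫ (RD U.ι).map t) := by
    rw [← DCohShriek.tr_thetaApp_comp g adj U adjU]
    exact (BCA.univT_tr_iff adjU (PerfGen.isQCohD_RD _ hL) _).2 inferInstance
  let S := (RD (i ⁻¹ᵁ (g ⁻¹ᵁ U)).ι).obj (RigidD.gen (i ⁻¹ᵁ (g ⁻¹ᵁ U)) m)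
  have hS : DCoh.IsQCohD S := by
    haveI := RigidD.isIso_adjD_unit (i ⁻¹ᵁ (g ⁻¹ᵁ U))
      ((DCoh.inD (i ⁻¹ᵁ (g ⁻¹ᵁ U) : Scheme.{u}) (Coh.structureModule _))⟦m⟧)
    exact PerfGen.isQCohD_of_iso (asIso ((RigidD.adjD (i ⁻¹ᵁ (g ⁻¹ᵁ U))).unit.app _))
      (PerfGen.isQCohD_shift (DCohShriek.isQCohD_inD (QC.isQCoh_unit _)) m)
  haveI := DerPush.hasRpush_sch (i' ≫ g ∣_ U)
  obtain ⟨c'⟩ := nonempty_pd_rpush i' (g ∣_ U)
  haveI : IsIso (i' ≫ g ∣_ U) := by
    haveI : IsIso (i ≫ g) := by rw [hi]; infer_instance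
    have h0 := morphismRestrict_comp i g U
    exact h0 ▸ (inferInstance : IsIso ((i ≫ g) ∣_ U))
  haveI := isEquivalence_rpush (i' ≫ g ∣_ U)
  let R := DCoh.Rpush (g ∣_ U)
  let t' := (DQPush.rpushRestrIso g U).inv.app L ≫ (RD U.ι).map t
  -- the constant
  let z := R.map (xiRes i ξ (g ⁻¹ᵁ U)) ≫ t'
  haveI : IsIso z := by
    have hn := (DQPush.rpushRestrIso g U).inv.naturality ξ
    simp only [Functor.comp_map] at hn
    have hz : z = R.map ((RelPCS.pdRestrIso i (g ⁻¹ᵁ U)).inv.app O) ≫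
        (DQPush.rpushRestrIso g U).inv.app ((PD i).obj O) ≫ (RD U.ι).map θ.hom := by
      simp only [z, t', R, xiRes, Functor.map_comp, Category.assoc]
      rw [reassoc_of% hn, ← hξ', Functor.map_comp]
    rw [hz]
    infer_instance
  have h1 := ht' _ (isQCohD_pd i' hS)
  refine (Function.Bijective.of_comp_iff' h1 _).1 ?_
  have hfun : ((fun φ : (PD i').obj S ⟶ (RD (g ⁻¹ᵁ U).ι).obj L => R.map φ ≫ t') ∘
      fun ψ : S ⟶ (RD (i ⁻¹ᵁ (g ⁻¹ᵁ U)).ι).obj O => (PD i').map ψ ≫ xiRes i ξ (g ⁻¹ᵁ U)) =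
      (asIso z).homToEquiv ∘ (PD i' ⋙ R).map := funext fun ψ => by
    show R.map ((PD i').map ψ ≫ xiRes i ξ (g ⁻¹ᵁ U)) ≫ t' = R.map ((PD i').map ψ) ≫ z
    rw [Functor.map_comp, Category.assoc]
  rw [hfun]
  exact (Equiv.bijective _).comp (RigidD.bijective_map_natIso c'.symm
    ((Functor.FullyFaithful.ofFullyFaithful (DCoh.Rpush (i' ≫ g ∣_ U))).map_bijective _ _))

end Groth.Agent.RelDual3

namespace Groth.Agent.RelDual3

/-- **`a(O)` is relatively dualizing** -/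
theorem isRelDualizing_adjoint {X S : Scheme.{u}} [CompactSpace S] [QuasiSeparatedSpace S] (f : X ⟶ S) [IsProper f]
    [Flat f] [LocallyOfFinitePresentation f] [DCoh.HasLpull (pullback.fst f f)]
    [PreservesFiniteLimits (Scheme.Modules.pushforward (pullback.diagonal f))]
    [PreservesFiniteColimits (Scheme.Modules.pushforward (pullback.diagonal f))] [DCoh.HasRpush f]
    {hf : DCoh.RpushPreservesQCoh f} {a : DCoh.DQCoh S ⥤ DCoh.DQCoh X} (adj : DCoh.RpushQ f hf ⊣ a)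
    {O : DCoh.DQCoh S} (hO : Nonempty (O.obj ≅ DCoh.inD S (Coh.structureModule S))) :
    Dual3.IsRelDualizing f (a.obj O).obj := by
  haveI : CompactSpace X := QuasiCompact.compactSpace_of_compactSpace f
  haveI : QuasiSeparatedSpace X := quasiSeparatedSpace_of_quasiSeparated f
  let p := pullback.snd f f
  haveI : IsProper p := inferInstanceAs (IsProper (pullback.snd f f))
  haveI : Flat p := inferInstanceAs (Flat (pullback.snd f f))
  haveI : LocallyOfFinitePresentation p := inferInstanceAs (LocallyOfFinitePresentation (pullback.snd f f))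
  haveI : CompactSpace ↥(pullback f f) := QuasiCompact.compactSpace_of_compactSpace p
  haveI : QuasiSeparatedSpace ↥(pullback f f) := quasiSeparatedSpace_of_quasiSeparated p
  haveI := DerPush.hasRpush_sch p
  have hp : DCoh.RpushPreservesQCoh p := fun E hE => DQPush.isQCohD_rpush p hE
  haveI := DCohShriek.isLeftAdjoint_rpushQ p hp
  let adj' := Adjunction.ofIsLeftAdjoint (DCoh.RpushQ p hp)
  let O' := RigidBase.unitQC X
  obtain ⟨e⟩ := RigidBase.nonempty_lpull_adjoint (IsPullback.of_hasPullback f f) adj adj' (O' := O') hO ⟨Iso.refl _⟩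
  have hL : DCoh.IsQCohD ((DCoh.Lpull (pullback.fst f f)).obj (a.obj O).obj) :=
    DQCoh.isQCohD_Lpull _ _ (a.obj O).property
  obtain ⟨ξ, hξ⟩ := exists_xi (pullback.diagonal f) p (pullback.diagonal_snd f) adj' (o := none)
    (DCohShriek.fin'_none p) (fun c hc => by cases hc) e
  obtain ⟨hpc, htor⟩ := RigidBase.sPerf_adjoint f adj hO
  exact ⟨ξ, hpc, htor, fun M j => bijective_shift (pullback.diagonal f) ξ hξ M j⟩

end Groth.Agent.RelDual3
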